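import Groth.Agent.CompactBdd.Basic
import Groth.Agent.HomColim.Coprod
import Groth.Agent.SiteCoh.Cartan
import Groth.Agent.SiteCoh.Compare
import Groth.Agent.SiteCoh.TotAcyclicPush
import Groth.Agent.W7TotAcyc.Modules
import Groth.Agent.HDU.ModData
import Groth.Agent.ModSiteFree.Basic
import Groth.Agent.ModSiteGro.Basic
import Groth.Prelude.Def_CohDer

/-!
Free modules on the members of a good collection are compact for uniformly bounded below families.
-/

set_option autoImplicit false
set_option linter.style.haveILetI false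
set_option backward.isDefEq.respectTransparency false
set_option backward.isDefEq.respectTransparency.types false

universe u

open CategoryTheory Category Limits Opposite Abelian

namespace Groth.Agent.CompactBdd

open Groth.Agent.SiteCoh Groth.Agent.HomColim

variable {C : Type u} [SmallCategory C] [HasPullbacks C] {J : GrothendieckTopology C}
  (O : Sheaf J CommRingCat.{u})

theorem cechExact_injective (I : ModSite.Mod O) [Injective I] {U : C} {κ : Type u} (Y : κ → Over U)
    (hY : Sieve.ofArrows (fun i => (Y i).left) (fun i => (Y i).hom) ∈ J U) (p : ℕ) :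
    CechExact Y (res' (Over.forget U) (ModSite.toAb I)) p := by
  have hac : ∀ (V : C) (q : ℕ), Subsingleton (CohSite.HU (ModSite.toAb I) (q + 1) V) := fun V q =>
    hu_of_totallyAcyclic (W7TotAcyc.isTotallyAcyclic_injective_module (ModSite.ringSh O) I) V q
  obtain ⟨e⟩ := cech_equiv (overData Y hY) (fun J' hJ' n => haveI := hJ'; cechExact_sheaf_injective_over J J' Y n)
    (p + 1) (ModSite.toAb I) (fun n a q => hac _ q)
  haveI := hac U p
  haveI := e.toEquiv.subsingleton
  exact (isZero_cech_iff Y _ p).1 (AddCommGrpCat.isZero_of_subsingleton _)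

theorem cechExact_coprod {U : C} {κ : Type u} [Finite κ] (Y : κ → Over U)
    (hfin : ∀ (p : ℕ) (a : Fin (p + 1) → κ), FinRefines (J := J) (∏ᶜ fun k => Y (a k)).left)
    {ι : Type u} {K : Discrete ι ⥤ ModSite.Mod O} (c : Cocone K) (hc : IsColimit c) (p : ℕ)
    (hK : ∀ i, CechExact Y (res' (Over.forget U) (ModSite.toAb (K.obj i))) p) :
    CechExact Y (res' (Over.forget U) (ModSite.toAb c.pt)) p := by
  classical
  intro x hx
  choose π hπ hπ' using exists_proj c hc
  let rπ : ∀ i, res' (Over.forget U) (ModSite.toAb c.pt) ⟶ res' (Over.forget U) (ModSite.toAb (K.obj i)) :=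
    fun i => resMap' _ ((SheafOfModules.toSheaf (ModSite.ringSh O)).map (π i))
  let rι : ∀ i, res' (Over.forget U) (ModSite.toAb (K.obj i)) ⟶ res' (Over.forget U) (ModSite.toAb c.pt) :=
    fun i => resMap' _ ((SheafOfModules.toSheaf (ModSite.ringSh O)).map (c.ι.app i))
  choose y hy using fun i => hK i (cmap (rπ i) x) (by rw [← cmap_cd, hx, cmap_zero])
  choose T hT0 hT using fun a : Fin (p + 2) → κ =>
    exists_eq_sum_proj c (hfin (p + 1) a) hc π hπ hπ' (x a)
  haveI := Fintype.ofFinite κ
  let S := Finset.univ.biUnion T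
  refine ⟨∑ i ∈ S, cmap (rι i) (y i), ?_⟩
  let cdH : Cochain Y (res' (Over.forget U) (ModSite.toAb c.pt)) p →+
      Cochain Y (res' (Over.forget U) (ModSite.toAb c.pt)) (p + 1) :=
    AddMonoidHom.mk' (cd Y _) fun a b => by
      funext q
      simp only [cd_sum, Pi.add_apply, map_add, smul_add, Finset.sum_add_distrib]
  change cdH _ = x
  rw [map_sum]
  funext a
  rw [Finset.sum_apply]
  refine Eq.trans ?_ (hT a).symm
  rw [← Finset.sum_subset (Finset.subset_biUnion_of_mem T (Finset.mem_univ a))]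
  · refine Finset.sum_congr rfl fun i _ => ?_
    show cd Y _ (cmap (rι i) (y i)) a = _
    rw [← cmap_cd, hy i]
    rfl
  · intro i _ hi
    show cd Y _ (cmap (rι i) (y i)) a = 0
    rw [← cmap_cd, hy i]
    show (rι i).app _ ((rπ i).app _ (x a)) = 0
    exact (congrArg ((rι i).app _).hom (hT0 a i hi)).trans (map_zero _)

variable (B : Set C) (Cov : ∀ (U : C) (ι : Type u), (ι → Over U) → Prop)
  (h1 : ∀ (U : C) (ι : Type u) (Y : ι → Over U), Cov U ι Y → Finite ι ∧ U ∈ B ∧
    Sieve.ofArrows (fun i => (Y i).left) (fun i => (Y i).hom) ∈ J U ∧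
    ∀ (p : ℕ) (a : Fin (p + 1) → ι), (∏ᶜ fun k => Y (a k)).left ∈ B)
  (h2 : ∀ U ∈ B, ∀ T ∈ J U, ∃ (ι : Type u) (Y : ι → Over U), Cov U ι Y ∧ ∀ i, T.arrows (Y i).hom)

include h1 h2

theorem finRefines {U : C} (hU : U ∈ B) : FinRefines (J := J) U := by
  intro P hP
  obtain ⟨T, hT, hTP⟩ := hP
  obtain ⟨ι, Y, hY, hYT⟩ := h2 U hU T hT
  obtain ⟨hfin, -, hcov, -⟩ := h1 U ι Y hY
  haveI := Fintype.ofFinite ι
  let e := Fintype.equivFin ι
  refine ⟨Fintype.card ι, fun k => (Y (e.symm k)).left, fun k => (Y (e.symm k)).hom,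
    J.superset_covering ?_ hcov, fun k => hTP _ (hYT _)⟩
  rintro W f ⟨V, a, b, ⟨i⟩, rfl⟩
  obtain ⟨k, rfl⟩ := e.symm.surjective i
  exact ⟨_, a, _, ⟨k⟩, rfl⟩

theorem ac_coprod_injective {U : C} (hU : U ∈ B) (ι : Type u) (I : ι → ModSite.Mod O)
    (hI : ∀ i, Injective (I i)) :
    haveI := ModSiteGro.isGrothendieckAbelian (ModSite.ringSh O)
    Ac (ModSite.freeOn O U) (∐ I) := by
  haveI := ModSiteGro.isGrothendieckAbelian (ModSite.ringSh O)
  intro k
  have h : Subsingleton (ModSite.HU O (∐ I) (k + 1) U) :=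
    cartan B Cov (fun V κ Y hY => (h1 V κ Y hY).2) h2 (ModSite.toAb (∐ I))
      (fun V κ Y hY p => by
        obtain ⟨hfin, -, hcov, hB⟩ := h1 V κ Y hY
        exact cechExact_coprod O Y (fun q a => finRefines B Cov h1 h2 (hB q a)) (colimit.cocone (Discrete.functor I))
          (colimit.isColimit _) p (fun i => haveI := hI i.as; cechExact_injective O (I i.as) Y hcov p))
      U hU k
  haveI := HDU.subsingleton_ext_of_hu O U k (∐ I) h
  refine subsingleton_of_forall_eq 0 fun x => ?_
  let e := ModSiteFree.freeOnIso (O := O) U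
  have : x = (Ext.mk₀ e.hom).comp ((Ext.mk₀ e.inv).comp x (zero_add _)) (zero_add _) := by simp
  rw [this, Subsingleton.elim ((Ext.mk₀ e.inv).comp x (zero_add _)) 0, Ext.comp_zero]

theorem homSum_freeOn_bijective [HasDerivedCategory.{u} (ModSite.Mod O)] {U : C} (hU : U ∈ B) {T : Type u}
    (M : T → DerivedCategory (ModSite.Mod O)) [HasCoproduct M] (a : ℤ) (hM : ∀ t, (M t).IsGE a) :
    Function.Bijective (CohDer.homSumToHomCoprod
      ((DerivedCategory.singleFunctor (ModSite.Mod O) 0).obj (ModSite.freeOn O U)) M) := by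
  classical
  haveI := ModSiteGro.isGrothendieckAbelian (ModSite.ringSh O)
  have hb := homSum_bijective (ModSite.freeOn O U)
    (fun ι => preservesCoproducts_coyoneda (finRefines B Cov h1 h2 hU) ι)
    (fun ι I hI => ac_coprod_injective O B Cov h1 h2 hU ι I hI) M a hM
  let e := (((SingleFunctors.evaluation _ _ (0 : ℤ)).mapIso
    (DerivedCategory.singleFunctorsPostcompQIso (ModSite.Mod O))).app (ModSite.freeOn O U))
  let pre : DirectSum T (fun t => ((DerivedCategory.singleFunctor (ModSite.Mod O) 0).obj (ModSite.freeOn O U)) ⟶ M t) →+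
      DirectSum T (fun t => DerivedCategory.Q.obj (S₀ (ModSite.freeOn O U)) ⟶ M t) :=
    DirectSum.map fun t => Preadditive.leftComp (M t) e.inv
  have hpre : Function.Bijective pre := by
    refine ⟨(DirectSum.map_injective _).2 fun t x y h => (cancel_epi e.inv).1 h,
      (DirectSum.map_surjective _).2 fun t x => ⟨e.hom ≫ x, Iso.inv_hom_id_assoc e x⟩⟩
  have hsq : ∀ x, CohDer.homSumToHomCoprod
      ((DerivedCategory.singleFunctor (ModSite.Mod O) 0).obj (ModSite.freeOn O U)) M x =
      e.hom ≫ CohDer.homSumToHomCoprod (DerivedCategory.Q.obj (S₀ (ModSite.freeOn O U))) M (pre x) := by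
    intro x
    induction x using DirectSum.induction_on with
    | zero => simp only [map_zero, comp_zero]
    | of t φ =>
      rw [homSum_of', DirectSum.map_of, homSum_of']
      change φ ≫ _ = e.hom ≫ (e.inv ≫ φ) ≫ _
      rw [assoc, Iso.hom_inv_id_assoc]
    | add a b ha hb => simp only [map_add, Preadditive.comp_add, ha, hb]
  rw [funext hsq]
  exact Function.Bijective.comp (g := fun f => e.hom ≫ f)
    ⟨fun f g h => (cancel_epi e.hom).1 h, fun f => ⟨e.inv ≫ f, Iso.hom_inv_id_assoc e f⟩⟩ (hb.comp hpre)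

end Groth.Agent.CompactBdd
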